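import Mathlib
import Cfsg.Agent.Base
import Cfsg.Agent.Lib.QT52.Core
import Cfsg.Agent.Lib.QT.Xi
import Cfsg.Agent.Lib.Push.Blk1
import Cfsg.Agent.Lib.LocStruct.ResAct

/-! Faithful solvable uniqueness groups with a small offender. -/

set_option autoImplicit false
set_option linter.unusedSectionVars false

namespace H68Q
open Subgroup Cfsg H69
open H90.QT hiding commutator_le_left_of_le_normalizer commutator_le_right_of_le_normalizer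
open scoped commutatorElement Pointwise

variable {G : Type*} [Group G] {X T D P V K : Subgroup G} {p : ℕ} {g : G}

theorem mem_of_coprime {a b : ℕ} (h : a.Coprime b) (ha : g ^ a ∈ K) (hb : g ^ b ∈ K) : g ∈ K := by
  have e := Nat.gcd_eq_gcd_ab a b
  rw [h.gcd_eq_one] at e
  rw [← zpow_one g, ← Nat.cast_one, e, zpow_add, zpow_mul, zpow_mul, zpow_natCast, zpow_natCast]
  exact mul_mem (zpow_mem ha _) (zpow_mem hb _)

/-- the action of the normalizer on `X / O₂(X)` -/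
def φ (X : Subgroup G) : 𝐍(X) →* MulAut (X ⧸ pCore 2 X) :=
  H2.quotAut X.normalizerMonoidHom (pCore 2 X) fun a x hx => by
    have := conj_mem_of_mem_normalizer (H1.normalizer_le_normalizer_pCoreOf (p := 2) X a.2) ⟨x, hx, rfl⟩
    obtain ⟨y, hy, e⟩ := this
    rwa [← show y = X.normalizerMonoidHom a x from Subtype.ext e]

theorem φ_mk (a : 𝐍(X)) (x : X) : φ X a (x : X ⧸ pCore 2 X) = (X.normalizerMonoidHom a x : X) := rfl

theorem mem_core {x : X} : (x : G) ∈ pCoreOf 2 X ↔ x ∈ pCore 2 X :=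
  ⟨fun ⟨y, hy, e⟩ => by rwa [← show y = x from Subtype.ext e], fun h => ⟨x, h, rfl⟩⟩

theorem φ_eq_one (hg : g ∈ 𝐍(X)) : φ X ⟨g, hg⟩ = 1 ↔ ∀ x ∈ X, ⁅g, x⁆ ∈ pCoreOf 2 X := by
  rw [MulEquiv.ext_iff]
  refine ⟨fun h x hx => ?_, fun h y => ?_⟩
  · have := mem_core.2 (QuotientGroup.eq.1 (h (⟨x⁻¹, inv_mem hx⟩ : X)))
    change (g * x⁻¹ * g⁻¹)⁻¹ * x⁻¹ ∈ _ at this
    rwa [conj_inv, inv_inv] at this
  · obtain ⟨x, rfl⟩ := QuotientGroup.mk_surjective y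
    refine QuotientGroup.eq.2 (mem_core.1 ?_)
    change (g * x * g⁻¹)⁻¹ * x ∈ _
    simpa [commutatorElement_def, mul_assoc] using h _ (inv_mem x.2)

/-- the centralizer of `X / O₂(X)` -/
def Y0 (X : Subgroup G) : Subgroup G := (φ X).ker.map 𝐍(X).subtype

theorem mem_Y0 (hg : g ∈ 𝐍(X)) : g ∈ Y0 X ↔ φ X ⟨g, hg⟩ = 1 :=
  ⟨fun ⟨y, hy, e⟩ => by rwa [← show y = ⟨g, hg⟩ from Subtype.ext e], fun h => ⟨⟨g, hg⟩, h, rfl⟩⟩

theorem Y0_le : Y0 X ≤ 𝐍(X) := map_subtype_le _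

theorem norm_Y0 : 𝐍(X) ≤ 𝐍(Y0 X) := normal_iff_le_normalizer_map.1 inferInstance

theorem mem_Y0' (hg : g ∈ 𝐍(X)) : g ∈ Y0 X ↔ ∀ x ∈ X, ⁅g, x⁆ ∈ pCoreOf 2 X := (mem_Y0 hg).trans (φ_eq_one hg)

variable [Finite G]

theorem burn [Fact p.Prime] (hP : IsPGroup p (X ⧸ pCore 2 X)) (hg : g ∈ 𝐍(X)) {k : ℕ} (hk : k.Coprime p)
    (h1 : g ^ k ∈ Y0 X) (h2 : ∀ x ∈ X, ⁅g, x⁆ ∈ twoPhiCore X) : g ∈ Y0 X := by
  refine (mem_Y0 hg).2 (H5.aut_eq_one_of_frattini hP _ (Nat.Coprime.coprime_dvd_left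
    (orderOf_dvd_of_pow_eq_one ?_) hk) fun y => ?_)
  · rw [← map_pow]; exact (mem_Y0 (pow_mem hg k)).1 h1
  · obtain ⟨x, rfl⟩ := QuotientGroup.mk_surjective y
    obtain ⟨z, hz, e⟩ := inv_mem (h2 _ (inv_mem x.2))
    rw [φ_mk, ← QuotientGroup.mk_inv, ← QuotientGroup.mk_mul, show x⁻¹ * X.normalizerMonoidHom ⟨g, hg⟩ x = z from
      Subtype.ext (by
        change (x : G)⁻¹ * (g * x * g⁻¹) = z
        rw [show (z : G) = _ from e, commutatorElement_def]; group)]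
    exact hz

theorem core_eq (T : Sylow 2 G) (hT : (T : Subgroup G) ≤ 𝐍(X)) :
    pCoreOf 2 (X ⊔ T) = (T : Subgroup G) ⊓ Y0 X := by
  have hN : X ⊔ T ≤ 𝐍(X) := sup_le le_normalizer hT
  have h1 : pCoreOf 2 (X ⊔ T) ≤ (T : Subgroup G) ⊓ Y0 X :=
    le_inf (H1.pCoreOf_le_sylow T le_sup_right) fun r hr => (mem_Y0' (hN (H1.pCoreOf_le _ hr))).2 fun x hx =>
      H1.pCoreOf_inf_le le_sup_left ⟨commutator_le_left_of_le_normalizer
        (le_sup_left.trans (H1.le_normalizer_pCoreOf _)) (commutator_mem_commutator hr hx),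
        commutator_le_right_of_le_normalizer ((H1.pCoreOf_le _).trans hN) (commutator_mem_commutator hr hx)⟩
  have h2 : pCoreOf 2 X ≤ pCoreOf 2 (X ⊔ T) := H1.le_pCoreOf ((H1.pCoreOf_le _).trans le_sup_left)
    (le_normalizer_pCoreOf_of_le hN) (H1.isPGroup_pCoreOf _)
  refine le_antisymm h1 (H1.le_pCoreOf (inf_le_left.trans le_sup_right) (sup_le
    (le_normalizer_of_commutator_le_left (commutator_le.2 fun s hs x hx => h1 (h2 ((mem_Y0' (Y0_le hs.2)).1 hs.2 x hx))))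
    (le_normalizer_inf le_normalizer (hT.trans norm_Y0))) (T.isPGroup'.to_le inf_le_left))

theorem oddGen (H : Subgroup G) : oddGenerated H = 𝐑(2, H) :=
  le_antisymm ((closure_le _).2 fun _ hx => mem_res hx.1 (Nat.coprime_two_right.2 hx.2))
    (res_le_iff.2 fun _ hx ho => subset_closure ⟨hx, Nat.coprime_two_right.1 ho⟩)

/-- the module -/
def VV (X T : Subgroup G) : Subgroup G := omegaOneCenter 2 (pCoreOf 2 X) ⊓ 𝐂(pCoreOf 2 (X ⊔ T))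

theorem norm_VV : 𝐍(X) ⊓ 𝐍(pCoreOf 2 (X ⊔ T)) ≤ 𝐍(VV X T) :=
  le_normalizer_inf (H68B.le_normalizer_oc (le_normalizer_pCoreOf_of_le inf_le_left))
    (H69.le_normalizer_centralizer inf_le_right)

theorem not_le_cent (hT : T ≤ 𝐍(X)) (h1 : oddGenerated X = X) (h2 : moduleV X ≠ ⊥) : ¬ X ≤ 𝐂(VV X T) := fun h => by
  have hN : X ⊔ T ≤ 𝐍(X) := sup_le le_normalizer hT
  have hW : 𝐍(X) ≤ 𝐍(omegaOneCenter 2 (pCoreOf 2 X)) :=
    H68B.le_normalizer_oc (le_normalizer_pCoreOf_of_le le_rfl)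
  have := pxq (p := 2) (X := pCoreOf 2 (X ⊔ T)) (Q := X) (omegaOneCenter 2 (pCoreOf 2 X))
    ((H1.isPGroup_pCoreOf X).to_le (H68B.oc_le _)) (((H1.pCoreOf_le _).trans hN).trans hW)
    (le_normalizer.trans hW) (by rw [res_eq_bot_of_isPGroup (H1.isPGroup_pCoreOf _)]; exact bot_le)
    ((le_inf (commutator_le_left_of_le_normalizer (le_sup_left.trans (H1.le_normalizer_pCoreOf _)))
      (commutator_le_right_of_le_normalizer ((H1.pCoreOf_le _).trans hN))).trans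
      ((H1.pCoreOf_inf_le le_sup_left).trans (H68B.le_cent_oc _))) (le_centralizer_iff.1 h)
  rw [← oddGen, h1] at this
  exact h2 (commutator_eq_bot_of_le_centralizer (le_centralizer_iff.1 this))

theorem main (hQ : IsQuasithin G) (T : Sylow 2 G) (hX : X ∈ Xi (T : Subgroup G)) (hf : moduleV X ≠ ⊥)
    (hq : ∀ V ∈ calR2 (X ⊔ T), pCoreOf 2 (X ⊔ T) = (T : Subgroup G) ⊓ 𝐂(V) → ∃ B ≤ X ⊔ T,
      InducesElemAbelianTwoGroupOn B V ∧ (V ⊓ 𝐂(B)).relIndex V ≤ (𝐂(V).relIndex B) ^ 2) :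
    (∀ p : ℕ, p.Prime → p ∣ Nat.card X → p = 2 ∨ p = 3) ∨
    (IsPGroup 5 (X ⧸ pCore 2 X) ∧ ∀ r : ℕ, r.Prime → r ≠ 2 → r ≠ 5 → ∀ g ∈ 𝐍(X),
      (∀ x ∈ X, ⁅g ^ r, x⁆ ∈ pCoreOf 2 X) → ∀ x ∈ X, ⁅g, x⁆ ∈ pCoreOf 2 X) := by
  obtain ⟨p, hp, p2, P, d, hO⟩ := exists_XD hX
  obtain ⟨h1, hT, hR, ⟨p', hp', -, hc⟩, -⟩ := hX
  obtain rfl : p = p' := by
    have e := relIndex_dvd_of_le_left X hO
    rw [d.idx, relIndex, pCoreOf, subgroupOf_map_subtype', index] at e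
    refine (Nat.prime_dvd_prime_iff_eq hp hp').1 (hp.dvd_of_dvd_pow (n := 3) ((dvd_pow_self p two_ne_zero).trans
      (e.trans (hc.elim (fun h => h.1 ▸ pow_dvd_pow _ (by norm_num)) fun h => h.1.dvd))))
  have := Fact.mk hp
  have hP : IsPGroup p (X ⧸ pCore 2 X) := hc.elim (fun h => .of_card h.1) fun h => .of_card h.1
  by_cases p3 : p = 3
  · refine .inl fun q hq' h => ?_
    obtain ⟨k, hk⟩ := hP.exists_card_eq
    obtain ⟨l, hl⟩ := (H1.isPGroup_pCore (p := 2) (G := X)).exists_card_eq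
    rw [card_eq_card_quotient_mul_card_subgroup (pCore 2 X), hk, hl, hq'.dvd_mul, p3] at h
    exact h.symm.imp (fun h => (Nat.prime_dvd_prime_iff_eq hq' Nat.prime_two).1 (hq'.dvd_of_dvd_pow h))
      fun h => (Nat.prime_dvd_prime_iff_eq hq' Nat.prime_three).1 (hq'.dvd_of_dvd_pow h)
  right
  have h5 : 5 ≤ p := hp.five_le_of_ne_two_of_ne_three p2 p3
  have c2 : ∀ k, (2 ^ k).Coprime p := fun k => ((Nat.coprime_primes Nat.prime_two hp).2 p2.symm).pow_left k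
  have eR := core_eq T hT
  have hN : X ⊔ T ≤ 𝐍(X) := sup_le le_normalizer hT
  obtain ⟨V, hV⟩ : ∃ V, V = VV X T := ⟨_, rfl⟩
  obtain ⟨N, hN1⟩ : ∃ N, N = 𝐍(X) ⊓ 𝐍(pCoreOf 2 (X ⊔ T)) := ⟨_, rfl⟩
  have NV : N ≤ 𝐍(V) := hN1 ▸ hV ▸ norm_VV
  have MN : X ⊔ T ≤ N := hN1 ▸ le_inf hN (H1.le_normalizer_pCoreOf _)
  have XN : X ≤ N := le_sup_left.trans MN
  have NX : N ≤ 𝐍(X) := hN1 ▸ inf_le_left
  have RC : pCoreOf 2 (X ⊔ T) ≤ 𝐂(V) := hV ▸ le_centralizer_iff.1 inf_le_right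
  have QC : pCoreOf 2 X ≤ 𝐂(V) := hV ▸ (H68B.le_cent_oc _).trans (centralizer_anti inf_le_left)
  have nc : ¬ X ≤ 𝐂(V) := hV ▸ not_le_cent hT h1 hf
  have ea : IsElementaryAbelian 2 V :=
    hV ▸ ⟨⟨⟨fun a b => Subtype.ext (a.2.2 b.1 ((H1.le_pCoreOf ((H1.pCoreOf_le _).trans le_sup_left)
      (le_normalizer_pCoreOf_of_le hN) (H1.isPGroup_pCoreOf _)) (H68B.oc_le _ b.2.1))).symm⟩⟩,
      fun a ha => (H68B.oc_ea _).2 a ha.1⟩
  have XC : X ⊓ 𝐂(V) ≤ twoPhiCore X := (d.irr _ (H69.le_normalizer_centralizer (XN.trans NV))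
    (H69.le_normalizer_centralizer ((le_sup_right.trans MN).trans NV))).resolve_left nc
  have odd : ∀ y ∈ X, ∀ k, y ^ 2 ^ k ∈ 𝐂(V) → y ∈ 𝐂(V) := fun y hy k h => by
    obtain ⟨m, hm⟩ := hP (QuotientGroup.mk ⟨y, hy⟩)
    exact mem_of_coprime ((c2 k).pow_right m) h (QC (mem_core.2 ((QuotientGroup.eq_one_iff _).1 hm) :))
  have cX : ∀ b ∈ 𝐍(X), ∀ x ∈ X, ⁅b, x⁆ ∈ X := fun b hb x hx =>
    commutator_le_right_of_le_normalizer le_rfl (commutator_mem_commutator hb hx)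
  have tR : ∀ t ∈ (T : Subgroup G), (∀ x ∈ X, ⁅t, x⁆ ∈ twoPhiCore X) → t ∈ pCoreOf 2 (X ⊔ T) := fun t ht h => by
    obtain ⟨k, hk⟩ := isPGroup_iff_mem.1 T.isPGroup' t ht
    exact eR.ge ⟨ht, burn hP (hT ht) (c2 k) (hk ▸ one_mem _) h⟩
  have key : ∀ b ∈ X ⊔ T, ∀ k, b ^ 2 ^ k ∈ 𝐂(V) → (∀ x ∈ X, ⁅b, x⁆ ∈ 𝐂(V)) → b ∈ 𝐂(V) := fun b hb k h2 h3 => by
    obtain ⟨y, hy, t, ht, rfl⟩ := (mem_sup_of_le_normalizer_left hT).1 hb
    have m1 : y * t ∈ H2.relCentralizer X (twoPhiCore X) :=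
      ⟨mul_mem (d.nX hy) (d.nD ht), fun x hx => XC ⟨cX _ (hN hb) x hx, h3 x hx⟩⟩
    have m2 : y ∈ H2.relCentralizer X (twoPhiCore X) := ⟨d.nX hy, fun x hx => d.cm hy hx⟩
    have m3 := RC (tR t ht ((mul_mem_cancel_left m2).1 m1).2)
    refine mul_mem (odd y hy k ?_) m3
    let ρ := H2.conjAut NV
    have kρ : ∀ u : N, ρ u = 1 ↔ (u : G) ∈ 𝐂(V) := fun u => ⟨fun h v hv => (mul_inv_eq_iff_eq_mul.1
      (congrArg Subtype.val (DFunLike.congr_fun h ⟨v, hv⟩) :)).symm,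
      fun h => MulEquiv.ext fun v => Subtype.ext (conj_eq_of_mem_centralizer h v.2)⟩
    have e1 := (kρ (⟨y, XN hy⟩ * ⟨t, MN (mem_sup_right ht)⟩) ).1
    have e2 := (kρ ((⟨y, XN hy⟩ * ⟨t, MN (mem_sup_right ht)⟩) ^ 2 ^ k)).2 h2
    rw [map_pow, map_mul, (kρ ⟨t, _⟩).2 m3, mul_one, ← map_pow] at e2
    exact (kρ _).1 e2
  have cC : ∀ b ∈ 𝐂(V), ∀ x ∈ X, ⁅b, x⁆ ∈ 𝐂(V) := fun b hb x hx => commutator_le_left_of_le_normalizer
    (H69.le_normalizer_centralizer (XN.trans NV)) (commutator_mem_commutator hb hx)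
  have hR2 : V ∈ calR2 (X ⊔ T) := by
    refine ⟨hV ▸ (inf_le_left.trans ((H68B.oc_le _).trans (H1.pCoreOf_le _))).trans
      le_sup_left, MN.trans NV, ea, fun K k1 k2 k3 ⟨k, hk⟩ => le_antisymm (fun n hn => ?_) k3⟩
    have := (normal_subgroupOf_iff_le_normalizer k3).2 (k1.trans (le_normalizer_inf le_normalizer
      (H69.le_normalizer_centralizer (MN.trans NV))))
    have pw : ∀ n ∈ K, n ^ 2 ^ k ∈ 𝐂(V) := fun n hn =>
      hk ▸ (mem_subgroupOf.1 ((((X ⊔ T) ⊓ 𝐂(V)).subgroupOf K).pow_index_mem ⟨n, hn⟩)).2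
    exact ⟨k1 hn, key n (k1 hn) k (pw n hn) fun x hx => odd _ (cX n (hN (k1 hn)) x hx) k (pw _
      (commutator_le_left_of_le_normalizer (le_sup_left.trans k2) (commutator_mem_commutator hn hx)))⟩
  obtain ⟨B, BM, hB, hi⟩ := hq V hR2
    (le_antisymm (le_inf (eR.le.trans inf_le_left) RC) fun t ht => tR t ht.1 fun x hx =>
      XC ⟨cX t (hT ht.1) x hx, cC t ht.2 x hx⟩)
  let ρ := H2.conjAut NV
  have kρ : ∀ u : N, ρ u = 1 ↔ (u : G) ∈ 𝐂(V) := fun u => ⟨fun h v hv => (mul_inv_eq_iff_eq_mul.1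
    (congrArg Subtype.val (DFunLike.congr_fun h ⟨v, hv⟩) :)).symm,
    fun h => MulEquiv.ext fun v => Subtype.ext (conj_eq_of_mem_centralizer h v.2)⟩
  have ker : ρ.ker = 𝐂(V).subgroupOf N := Subgroup.ext kρ
  obtain ⟨E, hE⟩ : ∃ E, E = (X.subgroupOf N).map ρ := ⟨_, rfl⟩
  obtain ⟨A, hA⟩ : ∃ A, A = (B.subgroupOf N).map ρ := ⟨_, rfl⟩
  have d' := (d.subgroupOf XN (le_sup_right.trans MN)).map ρ fun u hu => XC ⟨hu.1, (kρ u).1 hu.2⟩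
  rw [← hE] at d'
  let τ : X ⧸ pCore 2 X →* MulAut V := QuotientGroup.lift _ (ρ.comp (inclusion XN)) fun u hu =>
    (kρ _).2 (QC (mem_core.2 hu))
  have hτ : τ.range = E := hE ▸ le_antisymm (by
    rintro _ ⟨y, rfl⟩
    obtain ⟨x, rfl⟩ := QuotientGroup.mk_surjective y
    exact ⟨inclusion XN x, x.2, rfl⟩) (by
    rintro _ ⟨x, hx, rfl⟩
    exact ⟨QuotientGroup.mk ⟨x, hx⟩, rfl⟩)
  have pE : IsPGroup p E := hτ ▸ hP.of_surjective τ.rangeRestrict τ.rangeRestrict_surjective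
  have eE : ∀ e ∈ E, e ^ p = 1 := fun e he => by
    obtain ⟨k, hk⟩ := d'.two e he
    obtain ⟨m, hm⟩ := isPGroup_iff_mem.1 pE _ (pow_mem he p)
    exact mem_bot.1 (mem_of_coprime ((c2 k).pow_right m) (mem_bot.2 hk) (mem_bot.2 hm))
  have cE : (Nat.card E = p ^ 2 ∧ IsMulCommutative E) ∨ (Nat.card E = p ^ 3 ∧ ¬ IsMulCommutative E) := by
    have e1 : p ^ 2 ∣ Nat.card E := d'.idx ▸ relIndex_dvd_card _ _
    have e2 : Nat.card E ∣ Nat.card (X ⧸ pCore 2 X) := hτ ▸ card_range_dvd τ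
    have e3 : Nat.card E = p ^ 2 → Nat.card E = p ^ 2 ∧ IsMulCommutative E := fun h =>
      ⟨h, H48.isMulCommutative_of_card_le_sq pE h.le⟩
    rcases hc with hc | hc
    · exact .inl (e3 (Nat.dvd_antisymm (hc.1 ▸ e2) e1))
    obtain ⟨k, k3, hk⟩ := (Nat.dvd_prime_pow hp).1 (hc.1 ▸ e2)
    have k2 := (Nat.pow_dvd_pow_iff_le_right hp.one_lt).1 (hk ▸ e1)
    rcases (by omega : k = 2 ∨ k = 3) with rfl | rfl
    · exact .inl (e3 hk)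
    refine .inr ⟨hk, fun h => hc.2 ⟨⟨fun a b => ?_⟩⟩⟩
    subst hτ
    refine ((Nat.bijective_iff_surjective_and_card τ.rangeRestrict).2
      ⟨τ.rangeRestrict_surjective, hc.1.trans hk.symm⟩).1 ?_
    rw [map_mul, map_mul, h.is_comm.comm]
  have nE : ∀ u : N, ρ u ∈ 𝐍(E) := fun u => hE ▸ le_normalizer_map ρ ⟨u, normal_iff_top_le_normalizer.1
    ((normal_subgroupOf_iff_le_normalizer XN).2 NX) (mem_top u), rfl⟩
  have cm : ∀ u : N, (∀ e ∈ E, Commute (ρ u) e) ↔ ∀ x ∈ X, ⁅(u : G), x⁆ ∈ 𝐂(V) := fun u => by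
    refine ⟨fun h x hx => (kρ ⁅u, ⟨x, XN hx⟩⁆).1 ?_, fun h e he => ?_⟩
    · rw [map_commutatorElement]
      exact commutatorElement_eq_one_iff_commute.2 (h _ (hE ▸ ⟨⟨x, XN hx⟩, hx, rfl⟩))
    · obtain ⟨x, hx, rfl⟩ := hE ▸ he
      rw [← commutatorElement_eq_one_iff_commute, ← map_commutatorElement]
      exact (kρ _).2 (h x hx)
  have a1 : A ≤ 𝐍(E) := by
    rw [hA]; rintro _ ⟨u, -, rfl⟩; exact nE u
  have a2 : ∀ a ∈ A, a * a = 1 := by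
    rw [hA]; rintro _ ⟨u, hu, rfl⟩
    rw [← sq, ← map_pow]; exact (kρ _).2 (hB.2.1 u hu)
  have a3 : ∀ a ∈ A, (∀ e ∈ E, Commute a e) → a = 1 := by
    rw [hA]; rintro _ ⟨u, hu, rfl⟩ h
    exact (kρ u).2 (key u (BM hu) 1 (hB.2.1 u hu) ((cm u).1 h))
  have Ar : A ≤ ρ.range := hA ▸ map_le_range _ _
  have Er : E ≤ ρ.range := hE ▸ map_le_range _ _
  have a4 : Nat.card A ≤ 4 := by
    have hH : N ∈ calH G := pCoreOf_ne_bot_iff.1 fun e => pCoreOf_ne_bot_iff.2 hR (eq_bot_iff.2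
      ((H1.le_pCoreOf ((H1.pCoreOf_le _).trans MN) (hN1 ▸ inf_le_right) (H1.isPGroup_pCoreOf _)).trans e.le))
    have := card_le_four_of_section p2 (sqt_of_calH hQ hH p hp p2) ρ.rangeRestrict_surjective
      (Q := E.subgroupOf ρ.range) (A := A.subgroupOf ρ.range) (isPGroup_subgroupOf pE _)
      ((comap_mono a1).trans (le_normalizer_comap _)) fun a ha => Subtype.ext (a2 a ha)
    rwa [card_subgroupOf Ar, show A.subgroupOf ρ.range ⊓ 𝐂(E.subgroupOf ρ.range) = ⊥ from eq_bot_iff.2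
      fun a ha => Subtype.ext (a3 a ha.1 fun e he => (congrArg Subtype.val (ha.2 ⟨e, Er he⟩ he) :).symm),
      card_bot, mul_one] at this
  obtain ⟨p5, h⟩ := core (V := V) (fun v => Subtype.ext (by simpa [sq] using ea.2 v v.2)) h5 eE cE a1 a2
    (fun e => hB.1 fun b hb => (kρ ⟨b, MN (BM hb)⟩).1 (e.le (hA ▸ ⟨⟨b, MN (BM hb)⟩, hb, rfl⟩))) a3 a4
    (C := (V ⊓ 𝐂(B)).subgroupOf V) (by
      rw [hA]; rintro _ ⟨u, hu, rfl⟩ v hv
      exact Subtype.ext (mul_inv_eq_iff_eq_mul.2 (hv.2 u hu)))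
    (by rwa [hA, ← relIndex_ker, ker, relIndex_subgroupOf (BM.trans MN)])
  refine ⟨p5 ▸ hP, fun r hr r2 r5 g hg hgr => (mem_Y0' hg).1 ?_⟩
  obtain ⟨c, hc, n, hn, rfl⟩ := ((isSylowIn_top T).inf_of_le_normalizer le_top (hT.trans norm_Y0)).frattini
    (norm_Y0 hg)
  have nX : n ∈ 𝐍(X) := (mul_mem_cancel_left (Y0_le hc)).1 hg
  have nN : n ∈ N := hN1 ▸ ⟨nX, eR ▸ hn⟩
  have nr : n ^ r ∈ Y0 X := by
    have e := (mem_Y0 (pow_mem hg r)).1 ((mem_Y0' (pow_mem hg r)).2 hgr)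
    have e' : φ X ((⟨c, Y0_le hc⟩ * ⟨n, nX⟩) ^ r) = 1 := e
    rw [map_pow, map_mul, (mem_Y0 _).1 hc, one_mul, ← map_pow] at e'
    exact (mem_Y0 (pow_mem nX r)).2 e'
  have := (cm ⟨n, nN⟩).1 (h r hr r2 r5 _ (nE ⟨n, nN⟩) (by
    rw [← map_pow]
    exact (cm _).2 fun x hx => QC ((mem_Y0' (pow_mem nX r)).1 nr x hx)))
  exact mul_mem hc (burn hP nX ((Nat.coprime_primes hr hp).2 (p5 ▸ r5)) nr fun x hx =>
    XC ⟨cX n nX x hx, this x hx⟩)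

end H68Q
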